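import Groth.Agent.H23.CoverPush
import Groth.Agent.S11584

/-! The degree of a finite flat map of integral schemes at the generic point. -/

noncomputable section

set_option linter.style.haveILetI false
set_option linter.unusedSectionVars false
set_option backward.isDefEq.respectTransparency false
set_option backward.isDefEq.respectTransparency.types false

universe u

open CategoryTheory CategoryTheory.Limits AlgebraicGeometry TopologicalSpace Opposite

namespace Groth.Agent.CurveHurwitz

open Groth.Agent.H23

theorem residueDegree_genericPoint {X Y : Scheme.{u}} [IsIntegral X] [IsIntegral Y] (f : X ⟶ Y) [IsFinite f]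
    (hη : f (genericPoint X) = genericPoint Y) {d : ℕ}
    (h : FlatMod.IsFinLocFreeOfRank d ((Scheme.Modules.pushforward f).obj (Coh.structureModule X))) :
    f.residueDegree (genericPoint X) = d := by
  obtain ⟨U, hU, hmem, ⟨l⟩⟩ := CoverPush.crit_of_isFinLocFreeOfRank_push f h (f (genericPoint X))
  letI := CoverPush.alg f U
  let R := Γ(Y, U)
  let S := Γ(X, f ⁻¹ᵁ U)
  haveI : Module.Finite R S := Module.Finite.equiv l.symm
  haveI : Nonempty U := ⟨⟨_, hmem⟩⟩
  haveI : Nonempty (f ⁻¹ᵁ U) := ⟨⟨genericPoint X, hmem⟩⟩
  let K0 := Y.presheaf.stalk (f (genericPoint X))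
  let L := X.presheaf.stalk (genericPoint X)
  let : Algebra R K0 := (Y.presheaf.germ U _ hmem).hom.toAlgebra
  let : Algebra S L := (X.presheaf.germ (f ⁻¹ᵁ U) (genericPoint X) hmem).hom.toAlgebra
  let : Algebra K0 L := (f.stalkMap (genericPoint X)).hom.toAlgebra
  let : Algebra R L := ((X.presheaf.germ (f ⁻¹ᵁ U) (genericPoint X) hmem).hom.comp (f.app U).hom).toAlgebra
  have : IsScalarTower R K0 L := .of_algebraMap_eq fun z =>
    (Scheme.Hom.germ_stalkMap_apply f U (genericPoint X) hmem z).symm
  have : IsScalarTower R S L := .of_algebraMap_eq' rfl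
  have : IsFractionRing S L :=
    functionField_isFractionRing_of_isAffineOpen X (f ⁻¹ᵁ U) (hU.preimage f)
  have hFR : IsFractionRing R K0 := by
    have key : ∀ (y : Y) (_ : y = genericPoint Y) (h : y ∈ U),
        letI : Algebra R (Y.presheaf.stalk y) := (Y.presheaf.germ U y h).hom.toAlgebra
        IsFractionRing R (Y.presheaf.stalk y) := by
      rintro y rfl h
      exact functionField_isFractionRing_of_isAffineOpen Y U hU
    exact key _ hη hmem
  have hinj : Function.Injective (algebraMap R S) := by
    intro a b hab
    have h1 : algebraMap R L a = algebraMap R L b := by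
      rw [IsScalarTower.algebraMap_apply R S L, IsScalarTower.algebraMap_apply R S L, hab]
    rw [IsScalarTower.algebraMap_apply R K0 L, IsScalarTower.algebraMap_apply R K0 L] at h1
    let : Field K0 := (show IsField K0 by
      show IsField (Y.presheaf.stalk (f (genericPoint X)))
      rw [hη]; exact Field.toIsField Y.functionField).toField
    exact IsFractionRing.injective R K0 ((algebraMap K0 L).injective h1)
  have : Algebra.IsIntegral R S := Algebra.IsIntegral.of_finite _ _
  have : Algebra.IsAlgebraic R S := Algebra.IsIntegral.isAlgebraic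
  haveI : FaithfulSMul R S := (faithfulSMul_iff_algebraMap_injective R S).2 hinj
  have h1 : Module.finrank K0 L = Module.finrank R S :=
    congrArg Cardinal.toNat (Algebra.IsAlgebraic.rank_of_isFractionRing R K0 S L)
  have h2 : Module.finrank R S = d := by
    rw [l.finrank_eq]
    simp [Module.finrank_finsupp_self]
  rw [← h2, ← h1]
  let := (f.residueFieldMap (genericPoint X)).hom.toAlgebra
  exact ((Algebra.finrank_eq_of_equiv_equiv (RingEquiv.ofBijective _ (S11584.bijective_residue hη))
    (RingEquiv.ofBijective _ (S11584.bijective_residue (Y := X) rfl))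
    (RingHom.ext fun z => congr($(Scheme.residue_residueFieldMap f (genericPoint X)) z))).trans rfl).symm

end Groth.Agent.CurveHurwitz
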