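import Groth.Agent.Synt29.ConormalSeq
import Groth.Agent.Synt29.OmegaBase
import Groth.Agent.OmegaUniv.Universal

/-! The relative cotangent sequence for a composite of morphisms. -/

noncomputable section

set_option linter.style.haveILetI false
set_option linter.unusedSectionVars false
set_option backward.isDefEq.respectTransparency false
set_option backward.isDefEq.respectTransparency.types false

universe u

open CategoryTheory CategoryTheory.Limits AlgebraicGeometry Opposite

namespace Groth.Agent.CurveHurwitz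

open Groth.Agent.Synt29 Groth.Agent.Synt29.OmegaStalk Groth.Agent.KFlatLib

/-- `f^* Ω_{Y/S} ⟶ Ω_{X/S} ⟶ Ω_{X/Y} ⟶ 0`. -/
theorem exists_sequence' {X Y S : Scheme.{u}} (f : X ⟶ Y) (g : Y ⟶ S)
    (ΩY : Y.Modules) (dY : OmegaSh.Der g ΩY) (hY : OmegaSh.IsUniversal dY)
    (ΩX : X.Modules) (dX : OmegaSh.Der (f ≫ g) ΩX) (hX : OmegaSh.IsUniversal dX)
    (ΩR : X.Modules) (dR : OmegaSh.Der f ΩR) (hR : OmegaSh.IsUniversal dR)
    (c : (Scheme.Modules.pullback f).obj ΩY ⟶ ΩX) (hc : OmegaSh.IsDiffCompat f dY dX c) :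
    ∃ (π : ΩX ⟶ ΩR) (w : c ≫ π = 0), Epi π ∧ (ShortComplex.mk c π w).Exact ∧
      ∀ (U : X.Opens) (s : Γ(X, U)), π.app U (dX.app U s) = dR.app U s := by
  let D : OmegaSh.Der (f ≫ g) ΩR :=
    { d := dR.d
      d_mul := dR.d_mul
      d_map := dR.d_map
      d_app := fun {W} a => OmegaStalk.app_base ΩR dR (g ⁻¹ᵁ W.unop) (g.app W.unop a) }
  obtain ⟨π, hπ, -⟩ := hX ΩR D
  have hπ' : ∀ (U : X.Opens) (s : Γ(X, U)), π.app U (dX.app U s) = dR.app U s := fun U s =>
    PresheafOfModules.Derivation.congr_d hπ s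
  have key : ∀ x : X, ∃ (i₁ : (ModuleCat.extendScalars (f.stalkMap x).hom).obj
        (CommRingCat.KaehlerDifferential (g.stalkMap (f x))) ≅ St ((Scheme.Modules.pullback f).obj ΩY) x)
      (i₂ : CommRingCat.KaehlerDifferential (g.stalkMap (f x) ≫ f.stalkMap x) ≅ St ΩX x)
      (i₃ : CommRingCat.KaehlerDifferential (f.stalkMap x) ≅ St ΩR x),
      i₁.hom ≫ (DerSch.stalkFunctor X x).map c = baseMap (g.stalkMap (f x)) (f.stalkMap x) ≫ i₂.hom ∧
      i₂.hom ≫ (DerSch.stalkFunctor X x).map π = changeBase (g.stalkMap (f x)) (f.stalkMap x) ≫ i₃.hom := by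
    intro x
    obtain ⟨j, hj⟩ := exists_iso_of_eq hY (f x) (g.stalkMap (f x)) rfl
    obtain ⟨i₃, hi₃⟩ := exists_iso_of_eq hR x (f.stalkMap x) rfl
    obtain ⟨i₂, hi₂⟩ := exists_iso_of_eq hX x (g.stalkMap (f x) ≫ f.stalkMap x) (Scheme.Hom.stalkMap_comp f g x).symm
    let P := (KFlatLib.stalkPullbackIso f x).app ΩY
    let E := (ModuleCat.extendScalars (f.stalkMap x).hom).mapIso j
    let adj := ModuleCat.extendRestrictScalarsAdj (f.stalkMap x).hom
    refine ⟨E ≪≫ P.symm, i₂, i₃, ?_, ?_⟩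
    · apply (adj.homEquiv _ _).injective
      refine CommRingCat.KaehlerDifferential.ext fun b => ?_
      rw [Adjunction.homEquiv_unit, Adjunction.homEquiv_unit, ModuleCat.comp_apply,
        ModuleCat.comp_apply]
      show (DerSch.stalkFunctor X x).map c (P.inv (E.hom ((adj.unit.app _).hom
          (CommRingCat.KaehlerDifferential.d b)))) =
        i₂.hom (baseMap _ _ ((adj.unit.app _).hom (CommRingCat.KaehlerDifferential.d b)))
      rw [baseMap_unit, hi₂]
      have h1 : E.hom ((adj.unit.app _).hom (CommRingCat.KaehlerDifferential.d b)) =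
          (adj.unit.app (St ΩY (f x))).hom ((stalkD dY (f x)).d b) := by
        rw [← hj b]
        exact (congr($(adj.unit.naturality j.hom) (CommRingCat.KaehlerDifferential.d b))).symm
      rw [h1]
      obtain ⟨U, hU, s, rfl⟩ := Y.presheaf.exists_germ_eq (x := f x) b
      have hU' : x ∈ f ⁻¹ᵁ U := hU
      have h2 : P.inv ((adj.unit.app (St ΩY (f x))).hom
          ((stalkD dY (f x)).d (Y.presheaf.germ U (f x) hU s))) =
          gm _ hU' (OmegaSh.pullSect f ΩY U (dY.app U s)) := by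
        rw [stalkD_germ]
        have h3 : (adj.unit.app (St ΩY (f x))).hom (gm ΩY hU (dY.app U s)) =
            P.hom (gm _ hU' (OmegaSh.pullSect f ΩY U (dY.app U s))) :=
          (stalkPullbackIso_gm f ΩY x hU' _).symm
        rw [h3, Iso.hom_inv_id_apply]
      rw [h2, Scheme.Hom.germ_stalkMap_apply]
      refine (DerSch.stalkFunctor_map_germ x c _ hU' _).trans ?_
      rw [hc U s]
      exact (stalkD_germ dX (f ⁻¹ᵁ U) hU' _).symm
    refine CommRingCat.KaehlerDifferential.ext fun b => ?_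
    rw [ModuleCat.comp_apply, ModuleCat.comp_apply, hi₂, changeBase_d, hi₃]
    obtain ⟨U, hU, s, rfl⟩ := X.presheaf.exists_germ_eq (x := x) b
    rw [stalkD_germ, stalkD_germ]
    exact (DerSch.stalkFunctor_map_germ x π _ hU _).trans (congrArg _ (hπ' U s))
  have hex : ∀ x : X, Function.Exact (baseMap (g.stalkMap (f x)) (f.stalkMap x))
      (changeBase (g.stalkMap (f x)) (f.stalkMap x)) ∧
      Function.Surjective (changeBase (g.stalkMap (f x)) (f.stalkMap x)) := by
    intro x
    let R := S.presheaf.stalk (g (f x))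
    let A := Y.presheaf.stalk (f x)
    let T := X.presheaf.stalk x
    let _ := (g.stalkMap (f x)).hom.toAlgebra
    let _ := (f.stalkMap x).hom.toAlgebra
    let _ := (g.stalkMap (f x) ≫ f.stalkMap x).hom.toAlgebra
    have : IsScalarTower R A T := IsScalarTower.of_algebraMap_eq' rfl
    have e : ⇑(changeBase (g.stalkMap (f x)) (f.stalkMap x)) = ⇑(KaehlerDifferential.map R A T T) := by
      have h : (changeBase (g.stalkMap (f x)) (f.stalkMap x)).hom = KaehlerDifferential.map R A T T := by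
        refine LinearMap.ext_on (KaehlerDifferential.span_range_derivation R T) ?_
        rintro _ ⟨b, rfl⟩
        exact (changeBase_d _ _ b).trans (KaehlerDifferential.map_D R A T T b).symm
      exact congrArg DFunLike.coe h
    rw [e]
    exact ⟨KaehlerDifferential.exact_mapBaseChange_map R A T, KaehlerDifferential.map_surjective R A T⟩
  have w : c ≫ π = 0 := by
    refine ConormalExact.hom_ext_stalk _ _ fun x z => ?_
    rw [Functor.map_zero, Functor.map_comp, ModuleCat.comp_apply]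
    obtain ⟨i₁, i₂, i₃, h1, h2⟩ := key x
    obtain ⟨v, rfl⟩ := (ConcreteCategory.bijective_of_isIso i₁.hom).2 z
    rw [show (DerSch.stalkFunctor X x).map c (i₁.hom v) = i₂.hom (baseMap _ _ v) from congr($h1 v),
      show (DerSch.stalkFunctor X x).map π (i₂.hom (baseMap _ _ v)) = i₃.hom (changeBase _ _ (baseMap _ _ v)) from congr($h2 _),
      (hex x).1.apply_apply_eq_zero, map_zero]
    rfl
  refine ⟨π, w, (epi_iff_stalk π).2 fun x => ?_, ?_, hπ'⟩
  · obtain ⟨i₁, i₂, i₃, h1, h2⟩ := key x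
    exact ((stalk_iff i₂ i₃ h2).2).2 (hex x).2
  · rw [exact_iff_stalk]
    intro x
    rw [ShortComplex.moduleCat_exact_iff]
    intro z hz
    obtain ⟨i₁, i₂, i₃, h1, h2⟩ := key x
    obtain ⟨v, rfl⟩ := (ConcreteCategory.bijective_of_isIso i₂.hom).2 z
    have hv : changeBase (g.stalkMap (f x)) (f.stalkMap x) v = 0 :=
      (ConcreteCategory.bijective_of_isIso i₃.hom).1
        (((congr($h2 v) : _).symm.trans hz).trans (map_zero i₃.hom.hom).symm)
    obtain ⟨t, rfl⟩ := ((hex x).1 v).1 hv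
    exact ⟨i₁.hom t, congr($h1 t)⟩

theorem exists_sequence {X Y S : Scheme.{u}} (f : X ⟶ Y) (g : Y ⟶ S)
    (ΩY : Y.Modules) (dY : OmegaSh.Der g ΩY) (hY : OmegaSh.IsUniversal dY)
    (ΩX : X.Modules) (dX : OmegaSh.Der (f ≫ g) ΩX) (hX : OmegaSh.IsUniversal dX)
    (ΩR : X.Modules) (dR : OmegaSh.Der f ΩR) (hR : OmegaSh.IsUniversal dR)
    (c : (Scheme.Modules.pullback f).obj ΩY ⟶ ΩX) (hc : OmegaSh.IsDiffCompat f dY dX c) :
    ∃ (π : ΩX ⟶ ΩR) (w : c ≫ π = 0), Epi π ∧ (ShortComplex.mk c π w).Exact := by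
  obtain ⟨π, w, h1, h2, -⟩ := exists_sequence' f g ΩY dY hY ΩX dX hX ΩR dR hR c hc
  exact ⟨π, w, h1, h2⟩

end Groth.Agent.CurveHurwitz
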